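import Groth.Prelude.Def_Neron
import Mathlib.AlgebraicGeometry.Morphisms.SchemeTheoreticallyDominant

set_option autoImplicit false
universe u

open CategoryTheory CategoryTheory.Limits AlgebraicGeometry

namespace Groth.Agent.NeronLib.Dense

variable {W X Y Z S : Scheme.{u}}

/-- A morphism that factors through a closed immersion and is scheme-theoretically dominant
makes the closed immersion an isomorphism. -/
lemma isIso_of_factors (i : Z ⟶ X) [IsClosedImmersion i] (ι : W ⟶ X) [IsSchemeTheoreticallyDominant ι]
    (l : W ⟶ Z) (hl : l ≫ i = ι) : IsIso i := by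
  have hk : i.ker = ⊥ := by
    refine le_bot_iff.1 ?_
    calc i.ker ≤ (l ≫ i).ker := Scheme.Hom.le_ker_comp l i
      _ = ⊥ := by rw [hl, ι.ker_eq_bot]
  exact IsClosedImmersion.isIso_of_ker_eq i (𝟙 X) i (Category.comp_id i)
    (by rw [hk, Scheme.Hom.ker_eq_bot_of_isIso])

lemma ext_of_schDominant {f g : X ⟶ Y} (s : Y ⟶ S) [IsSeparated s] (h : f ≫ s = g ≫ s)
    (ι : W ⟶ X) [IsSchemeTheoreticallyDominant ι] (hU : ι ≫ f = ι ≫ g) : f = g := by
  let X' : Over S := Over.mk (f ≫ s)
  let Y' : Over S := Over.mk s
  let U' : Over S := Over.mk (ι ≫ f ≫ s)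
  let f' : X' ⟶ Y' := Over.homMk f
  let g' : X' ⟶ Y' := Over.homMk g
  let ι' : U' ⟶ X' := Over.homMk ι
  have : IsSeparated Y'.hom := ‹_›
  have hh : ι' ≫ f' = ι' ≫ g' := by ext1; exact hU
  have hlift : (equalizer.lift ι' hh).left ≫ (equalizer.ι f' g').left = ι := by
    rw [← Over.comp_left, equalizer.lift_ι]
    rfl
  have := isIso_of_factors (X := X) (equalizer.ι f' g').left ι _ hlift
  rw [← cancel_epi (equalizer.ι f' g').left]
  exact congr($(equalizer.condition f' g').left)

variable (R : Type u) [CommRing R] [IsDomain R]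

instance : IsDominant (Neron.genPt R) := by
  rw [isDominant_iff]
  exact PrimeSpectrum.denseRange_comap_iff_ker_le_nilRadical _ |>.2 (by
    rw [CommRingCat.hom_ofHom, (RingHom.injective_iff_ker_eq_bot _).1 (IsFractionRing.injective R (FractionRing R))]
    exact bot_le)

instance : IsSchemeTheoreticallyDominant (Neron.genPt R) := .of_isDominant _

/-- Morphisms from a flat scheme to a separated scheme over a domain agreeing on the generic fibre agree. -/
lemma eq_of_genericFibre_map_eq {A B : Over (Spec (CommRingCat.of R))} [Flat A.hom] [IsSeparated B.hom]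
    {f g : A ⟶ B} (h : (Neron.genericFibre R).map f = (Neron.genericFibre R).map g) : f = g := by
  ext1
  refine ext_of_schDominant B.hom (by simp) (pullback.fst A.hom (Neron.genPt R)) ?_
  have := congrArg (fun q => q.left ≫ pullback.fst B.hom (Neron.genPt R)) h
  dsimp [Neron.genericFibre, Over.pullback] at this
  simp only [Over.homMk_left] at this
  erw [pullback.lift_fst, pullback.lift_fst] at this
  exact this

end Groth.Agent.NeronLib.Dense
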