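import Mathlib.CategoryTheory.Comma.Over.Pullback
import Mathlib.CategoryTheory.Limits.Shapes.Pullback.IsPullback.Basic
import Mathlib.AlgebraicGeometry.Pullbacks

/-!
Bijectivity of `Over.pullback ι` on hom-sets, in terms of extensions of morphisms from the restriction.
-/

set_option autoImplicit false
universe u

open CategoryTheory CategoryTheory.Limits AlgebraicGeometry

namespace Groth.Agent.NeronLib.MapBij

variable {S U : Scheme.{u}} (ι : U ⟶ S)

lemma map_left_fst {Y N : Over S} (f : Y ⟶ N) :
    ((Over.pullback ι).map f).left ≫ pullback.fst N.hom ι = pullback.fst Y.hom ι ≫ f.left := by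
  exact pullback.lift_fst _ _ _

lemma map_ext_iff {Y N : Over S} (f : Y ⟶ N) (φ : (Over.pullback ι).obj Y ⟶ (Over.pullback ι).obj N) :
    (Over.pullback ι).map f = φ ↔ pullback.fst Y.hom ι ≫ f.left = φ.left ≫ pullback.fst N.hom ι := by
  constructor
  · rintro rfl
    exact (map_left_fst ι f).symm
  · intro h
    ext1
    apply pullback.hom_ext
    · rw [map_left_fst]; exact h
    · exact ((Over.w ((Over.pullback ι).map f))).trans (Over.w φ).symm

lemma map_eq_map_iff {Y N : Over S} (f f' : Y ⟶ N) :
    (Over.pullback ι).map f = (Over.pullback ι).map f' ↔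
      pullback.fst Y.hom ι ≫ f.left = pullback.fst Y.hom ι ≫ f'.left := by
  rw [map_ext_iff, map_left_fst]

/-- Injectivity tested on any pullback square. -/
lemma injective_iff {Y N : Over S} {P : Scheme.{u}} (p : P ⟶ Y.left) (q : P ⟶ U)
    (sq : IsPullback p q Y.hom ι) :
    Function.Injective (fun f : Y ⟶ N => (Over.pullback ι).map f) ↔
      ∀ f f' : Y ⟶ N, p ≫ f.left = p ≫ f'.left → f = f' := by
  have hp : pullback.fst Y.hom ι = sq.isoPullback.inv ≫ p := sq.isoPullback_inv_fst.symm
  constructor
  · intro H f f' h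
    exact H ((map_eq_map_iff ι f f').2 (by rw [hp, Category.assoc, h, Category.assoc]))
  · intro H f f' h
    refine H f f' ?_
    have h' := (map_eq_map_iff ι f f').1 h
    rw [hp, Category.assoc, Category.assoc, cancel_epi] at h'
    exact h'

/-- Surjectivity tested on any pullback square. -/
lemma surjective_iff {Y N : Over S} {P : Scheme.{u}} (p : P ⟶ Y.left) (q : P ⟶ U)
    (sq : IsPullback p q Y.hom ι) :
    Function.Surjective (fun f : Y ⟶ N => (Over.pullback ι).map f) ↔
      ∀ h : P ⟶ N.left, h ≫ N.hom = p ≫ Y.hom → ∃ f : Y ⟶ N, p ≫ f.left = h := by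
  constructor
  · intro H h hh
    obtain ⟨f, hf⟩ := H (Over.homMk
      (pullback.lift (sq.isoPullback.inv ≫ h) (pullback.snd Y.hom ι)
        (by rw [Category.assoc, hh, sq.w, sq.isoPullback_inv_snd_assoc]))
      (pullback.lift_snd _ _ _))
    refine ⟨f, ?_⟩
    have h1 := (map_ext_iff ι f _).1 hf
    simp only [Over.homMk_left] at h1
    erw [pullback.lift_fst] at h1
    rw [← sq.isoPullback_hom_fst, Category.assoc, h1, Iso.hom_inv_id_assoc]
  · intro H φ
    obtain ⟨f, hf⟩ := H (sq.isoPullback.hom ≫ φ.left ≫ pullback.fst N.hom ι) (by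
      have h1 : φ.left ≫ pullback.snd N.hom ι = pullback.snd Y.hom ι := Over.w φ
      simp only [Category.assoc]
      erw [pullback.condition, reassoc_of% h1, sq.isoPullback_hom_snd_assoc]
      exact sq.w.symm)
    refine ⟨f, (map_ext_iff ι f φ).2 ?_⟩
    rw [← cancel_epi sq.isoPullback.hom, ← Category.assoc, sq.isoPullback_hom_fst]
    exact hf

lemma bijective_iff {Y N : Over S} {P : Scheme.{u}} (p : P ⟶ Y.left) (q : P ⟶ U)
    (sq : IsPullback p q Y.hom ι) :
    Function.Bijective (fun f : Y ⟶ N => (Over.pullback ι).map f) ↔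
      ∀ h : P ⟶ N.left, h ≫ N.hom = p ≫ Y.hom → ∃! f : Y ⟶ N, p ≫ f.left = h := by
  rw [Function.Bijective, injective_iff ι p q sq, surjective_iff ι p q sq]
  constructor
  · rintro ⟨hi, hs⟩ h hh
    obtain ⟨f, hf⟩ := hs h hh
    exact ⟨f, hf, fun f' hf' => hi f' f (hf'.trans hf.symm)⟩
  · intro H
    refine ⟨fun f f' h => ?_, fun h hh => (H h hh).exists⟩
    exact (H (p ≫ f.left) (by simp)).unique rfl h.symm

variable {S' U' : Scheme.{u}} {g : S' ⟶ S} {ι' : U' ⟶ S'} {k : U' ⟶ U}

lemma pullback_paste (sq : IsPullback k ι' ι g) (Y' : Over S') :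
    IsPullback (pullback.fst Y'.hom ι') (pullback.snd Y'.hom ι' ≫ k) ((Over.map g).obj Y').hom ι :=
  ((IsPullback.of_hasPullback Y'.hom ι').flip.paste_horiz sq).flip

/-- Base change of injectivity. -/
lemma injective_baseChange (sq : IsPullback k ι' ι g) (Y' : Over S') (N : Over S)
    (hN : Function.Injective (fun f : (Over.map g).obj Y' ⟶ N => (Over.pullback ι).map f)) :
    Function.Injective (fun f : Y' ⟶ (Over.pullback g).obj N => (Over.pullback ι').map f) := by
  rw [injective_iff ι _ _ (pullback_paste ι sq Y')] at hN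
  rw [injective_iff ι' _ _ (IsPullback.of_hasPullback Y'.hom ι')]
  intro f f' h
  apply ((Over.mapPullbackAdj g).homEquiv Y' N).symm.injective
  apply hN
  simp only [Adjunction.homEquiv_counit, Over.comp_left, Over.map_map_left]
  exact (reassoc_of% h) _

/-- Base change of bijectivity. -/
lemma bijective_baseChange (sq : IsPullback k ι' ι g) (Y' : Over S') (N : Over S)
    (hN : Function.Bijective (fun f : (Over.map g).obj Y' ⟶ N => (Over.pullback ι).map f)) :
    Function.Bijective (fun f : Y' ⟶ (Over.pullback g).obj N => (Over.pullback ι').map f) := by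
  refine ⟨injective_baseChange ι sq Y' N hN.1, ?_⟩
  have hs := hN.2
  rw [surjective_iff ι _ _ (pullback_paste ι sq Y')] at hs
  rw [surjective_iff ι' _ _ (IsPullback.of_hasPullback Y'.hom ι')]
  intro h hh
  have hh' : h ≫ pullback.snd N.hom g = pullback.fst Y'.hom ι' ≫ Y'.hom := hh
  obtain ⟨f, hf⟩ := hs (h ≫ pullback.fst N.hom g) (by
    show _ = pullback.fst Y'.hom ι' ≫ Y'.hom ≫ g
    rw [Category.assoc, pullback.condition, reassoc_of% hh'])
  have hw : f.left ≫ N.hom = Y'.hom ≫ g := Over.w f
  refine ⟨Over.homMk (pullback.lift f.left Y'.hom hw) (pullback.lift_snd _ _ _), ?_⟩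
  simp only [Over.homMk_left]
  apply pullback.hom_ext
  · erw [Category.assoc, pullback.lift_fst]; exact hf
  · erw [Category.assoc, pullback.lift_snd]; exact hh'.symm

end Groth.Agent.NeronLib.MapBij
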