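import Mathlib.Data.Matrix.Block
import Mathlib.LinearAlgebra.Matrix.Symmetric
import Mathlib.LinearAlgebra.Matrix.DotProduct
import Mathlib.Tactic.Linarith

/-!
A self-adjoint endomorphism `T` of a group with a positive definite integer valued form with `0 ≤ T ≤ 1`
is idempotent.
-/

set_option autoImplicit false

namespace Groth.Agent.NeronLib.PosForm

variable {Z : Type} [AddCommGroup Z]

theorem eq_zero_of_halving (B : Z →+ Z →+ ℤ) (hpos : ∀ x, x ≠ 0 → 0 < B x x)
    (T : Z →+ Z) (hsa : ∀ x y, B (T x) y = B x (T y))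
    (hhalf : ∀ x, 2 * B (T x) (T x) ≤ B x x) : ∀ x, T x = 0 := by
  suffices h : ∀ n : ℕ, ∀ x, (B x x).natAbs ≤ n → T x = 0 from fun x => h _ x le_rfl
  intro n
  induction n with
  | zero =>
    intro x hx
    by_cases hx0 : x = 0
    · simp [hx0]
    · have := hpos x hx0; omega
  | succ n ih =>
    intro x hx
    by_contra hTx
    have h1 := hpos _ hTx
    have h2 := hhalf x
    have h3 := ih (T x) (by omega)
    rw [hsa x (T x), h3, map_zero] at h1
    omega

theorem idempotent (B : Z →+ Z →+ ℤ) (hsymm : ∀ x y, B x y = B y x)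
    (hpos : ∀ x, x ≠ 0 → 0 < B x x) (T : Z →+ Z) (hsa : ∀ x y, B (T x) y = B x (T y))
    (h0 : ∀ x, 0 ≤ B x (T x)) (h1 : ∀ x, B x (T x) ≤ B x x) : ∀ x, T (T x) = T x := by
  set U : Z →+ Z := T - T.comp T with hU
  have hUap : ∀ x, U x = T x - T (T x) := fun x => rfl
  have hcross : ∀ x, 0 ≤ B (T x) (x - T x) := by
    intro x
    have e : B (T x) (x - T x) =
        B (x - T x) (T (x - T x)) + (B (T x) (T x) - B (T x) (T (T x))) := by
      have e1 : B x (T x) = B (T x) x := hsymm _ _
      have e2 : B x (T (T x)) = B (T x) (T x) := (hsa _ _).symm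
      simp only [map_sub, AddMonoidHom.sub_apply]
      linarith
    rw [e]
    have := h0 (x - T x)
    have := h1 (T x)
    linarith
  have hle : ∀ x, B (T x) (T x) ≤ B x (T x) := by
    intro x
    have := hcross x
    rw [map_sub, hsymm (T x) x] at this
    linarith
  have hle' : ∀ x, B (x - T x) (x - T x) ≤ B x (x - T x) := by
    intro x
    have := hcross x
    rw [map_sub B x (T x), AddMonoidHom.sub_apply]
    linarith
  have hzero := eq_zero_of_halving B hpos U (fun x y => by
    have e := hsa (T x) y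
    rw [hsa x (T y)] at e
    simp only [hUap, map_sub, AddMonoidHom.sub_apply]
    rw [hsa x y, e]) (fun x => by
    have a1 := hle (x - T x)
    have a2 := h1 (x - T x)
    have a3 := hle' x
    have a4 : T (x - T x) = U x := by rw [hUap, map_sub]
    have b1 := hle' (T x)
    have b3 : B (T x) (T x - T (T x)) ≤ B (T x) (T x) := by
      rw [map_sub]; have := h0 (T x); linarith
    have b5 := hle x
    rw [a4] at a1 a2
    rw [← hUap] at b1 b3
    have c3 : B x (T x) + B x (x - T x) = B x x := by rw [map_sub]; ring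
    linarith)
  intro x
  have := hzero x
  rw [hUap, sub_eq_zero] at this
  exact this.symm

variable {ι : Type} [Fintype ι]

/-- The form of a matrix. -/
def form (S : Matrix ι ι ℤ) : (ι → ℤ) →+ (ι → ℤ) →+ ℤ :=
  AddMonoidHom.mk' (fun x => AddMonoidHom.mk' (fun y => x ⬝ᵥ S.mulVec y)
    (fun y y' => by simp [Matrix.mulVec_add, dotProduct_add]))
    (fun x x' => by ext y; simp [add_dotProduct])

@[simp] lemma form_apply (S : Matrix ι ι ℤ) (x y : ι → ℤ) : form S x y = x ⬝ᵥ S.mulVec y := rfl

lemma form_symm {S : Matrix ι ι ℤ} (hS : S.IsSymm) (x y : ι → ℤ) : form S x y = form S y x := by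
  rw [form_apply, form_apply, Matrix.dotProduct_mulVec, ← Matrix.mulVec_transpose, hS.eq, dotProduct_comm]

end Groth.Agent.NeronLib.PosForm
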